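import Groth.Agent.Lib.RigDescent
import Groth.Agent.H23.PicMul

/-!
An invertible module trivial on a cover of the base is pulled back from the base.
-/

set_option autoImplicit false
set_option linter.unusedSectionVars false
set_option linter.style.haveILetI false
set_option backward.isDefEq.respectTransparency false
set_option backward.isDefEq.respectTransparency.types false
set_option maxHeartbeats 800000

universe u

open CategoryTheory CategoryTheory.Limits AlgebraicGeometry TopologicalSpace Opposite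

noncomputable section

namespace Groth.Agent.PicFppfTriv

open Groth.Agent.AModX Groth.Agent.InvX Groth.Agent.UnitDescent Groth.Agent.FramesTrans Groth.Agent.RigDatum

variable {X S S' : Scheme.{u}} (f : X ⟶ S) (h : S' ⟶ S) {L : X.Modules} (F : Frames L)
  (η : (Scheme.Modules.pullback (pullback.fst f h)).obj L ≅ Coh.structureModule (pullback f h))

/-- The comparison of two trivializations over two points of the cover. -/
def IsK {Z : Scheme.{u}} (y₁ y₂ : Z ⟶ S') (k : Γ(Z, ⊤)ˣ) : Prop :=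
  ∀ {W : Scheme.{u}} (x₁ x₂ : W ⟶ pullback f h) (w : W ⟶ Z), x₁ ≫ pullback.snd f h = w ≫ y₁ →
    x₂ ≫ pullback.snd f h = w ≫ y₂ → x₁ ≫ pullback.fst f h = x₂ ≫ pullback.fst f h →
    ∀ (a : X) (h₁ : (⊤ : W.Opens) ≤ (x₁ ≫ pullback.fst f h) ⁻¹ᵁ F.U a)
      (h₂ : (⊤ : W.Opens) ≤ (x₂ ≫ pullback.fst f h) ⁻¹ᵁ F.U a),
      uP w k * coAt F (pullback.fst f h) η x₁ a h₁ = coAt F (pullback.fst f h) η x₂ a h₂

variable (ha : ∀ (T : Over S) (U : T.left.Opens), IsIso ((PicF.XTproj f T).app U))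

include ha in
theorem uP_snd_bijective {Z : Scheme.{u}} (s : Z ⟶ S) :
    Function.Bijective (uP (pullback.snd f s) : Γ(Z, ⊤)ˣ → Γ(pullback f s, ⊤)ˣ) := by
  haveI := ha (Over.mk s) ⊤
  have hb := (ConcreteCategory.isIso_iff_bijective ((PicF.XTproj f (Over.mk s)).app ⊤)).1 inferInstance
  refine ⟨fun a b e => Units.ext (hb.1 (congrArg Units.val e)), fun D => ?_⟩
  obtain ⟨c, hc⟩ := hb.2 (D : Γ(pullback f s, ⊤))
  obtain ⟨d, hd⟩ := hb.2 ((D⁻¹ : Γ(pullback f s, ⊤)ˣ) : Γ(pullback f s, ⊤))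
  have h1 : c * d = 1 := hb.1 (by rw [map_mul, hc, hd, map_one]; exact D.mul_inv)
  exact ⟨⟨c, d, h1, by rw [mul_comm]; exact h1⟩, Units.ext hc⟩

theorem over_eq {Z : Scheme.{u}} {y₁ y₂ : Z ⟶ S'} (e : y₁ ≫ h = y₂ ≫ h) :
    pullback.fst f (y₁ ≫ h) ≫ f = (pullback.snd f (y₁ ≫ h) ≫ y₂) ≫ h := by
  rw [pullback.condition, Category.assoc, e]

include ha in
theorem exists_k {Z : Scheme.{u}} (y₁ y₂ : Z ⟶ S') (e : y₁ ≫ h = y₂ ≫ h) : ∃ k, IsK f h F η y₁ y₂ k := by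
  let P := pullback f (y₁ ≫ h)
  let z₁ : P ⟶ pullback f h := pullback.lift (pullback.fst _ _) (pullback.snd _ _ ≫ y₁)
    (pullback.condition.trans (Category.assoc _ _ _).symm)
  let z₂ : P ⟶ pullback f h := pullback.lift (pullback.fst _ _) (pullback.snd _ _ ≫ y₂) (over_eq f h e)
  let O : X → P.Opens := fun a => pullback.fst f (y₁ ≫ h) ⁻¹ᵁ F.U a
  have hz₁ : z₁ ≫ pullback.fst f h = pullback.fst f (y₁ ≫ h) := pullback.lift_fst _ _ _
  have hz₂ : z₂ ≫ pullback.fst f h = pullback.fst f (y₁ ≫ h) := pullback.lift_fst _ _ _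
  have k₁ : ∀ {W : Scheme.{u}} (m : W ⟶ P) (a : X), (⊤ : W.Opens) ≤ (m ≫ pullback.fst f (y₁ ≫ h)) ⁻¹ᵁ F.U a →
      (⊤ : W.Opens) ≤ ((m ≫ z₁) ≫ pullback.fst f h) ⁻¹ᵁ F.U a := fun m a hm => by
    rw [Category.assoc, hz₁]; exact hm
  have k₂ : ∀ {W : Scheme.{u}} (m : W ⟶ P) (a : X), (⊤ : W.Opens) ≤ (m ≫ pullback.fst f (y₁ ≫ h)) ⁻¹ᵁ F.U a →
      (⊤ : W.Opens) ≤ ((m ≫ z₂) ≫ pullback.fst f h) ⁻¹ᵁ F.U a := fun m a hm => by
    rw [Category.assoc, hz₂]; exact hm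
  let r : ∀ a, Γ((O a).toScheme, ⊤)ˣ := fun a =>
    coAt F (pullback.fst f h) η ((O a).ι ≫ z₂) a (k₂ _ a fun z _ => z.2) /
      coAt F (pullback.fst f h) η ((O a).ι ≫ z₁) a (k₁ _ a fun z _ => z.2)
  obtain ⟨D, hD⟩ := UnitDescent.exists_unit (fun a => (O a).ι)
    (fun z => ⟨_, ⟨z, F.mem _⟩, rfl⟩) r fun i j W m m' em => by
      simp only [r, map_div, uP_coAt, reassoc_of% em]
      have kj : (⊤ : W.Opens) ≤ ((m' ≫ (O j).ι) ≫ pullback.fst f (y₁ ≫ h)) ⁻¹ᵁ F.U j := fun z _ => (m' z).2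
      have ki : (⊤ : W.Opens) ≤ ((m' ≫ (O j).ι) ≫ pullback.fst f (y₁ ≫ h)) ⁻¹ᵁ F.U i := by
        rw [← em]; exact fun z _ => (m z).2
      simp only [← Category.assoc]
      rw [coAt_change F (pullback.fst f h) η ((m' ≫ (O j).ι) ≫ z₂) i j (k₂ _ i ki) (k₂ _ j kj),
        coAt_change F (pullback.fst f h) η ((m' ≫ (O j).ι) ≫ z₁) i j (k₁ _ i ki) (k₁ _ j kj)]
      have e12 : ((m' ≫ (O j).ι) ≫ z₂) ≫ pullback.fst f h = ((m' ≫ (O j).ι) ≫ z₁) ≫ pullback.fst f h := by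
        rw [Category.assoc _ z₂, hz₂, Category.assoc _ z₁, hz₁]
      simp only [e12]
      exact (mul_div_mul_left_eq_div _ _ _).symm
  obtain ⟨k, hk⟩ := (uP_snd_bijective f ha (y₁ ≫ h)).2 D
  refine ⟨k, fun {W} x₁ x₂ w e₁ e₂ ep a h₁ h₂ => ?_⟩
  let m : W ⟶ P := pullback.lift (x₁ ≫ pullback.fst f h) w (by
    rw [Category.assoc, pullback.condition, reassoc_of% e₁])
  have m₁ : m ≫ z₁ = x₁ := pullback.hom_ext
    (by rw [Category.assoc, hz₁]; exact pullback.lift_fst _ _ _)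
    (by rw [Category.assoc, pullback.lift_snd, ← Category.assoc, pullback.lift_snd, e₁])
  have m₂ : m ≫ z₂ = x₂ := pullback.hom_ext
    (by rw [Category.assoc, hz₂]; exact (pullback.lift_fst _ _ _).trans ep)
    (by rw [Category.assoc, pullback.lift_snd, ← Category.assoc, pullback.lift_snd, e₂])
  have mw : m ≫ pullback.snd f (y₁ ≫ h) = w := pullback.lift_snd _ _ _
  have hm : (⊤ : W.Opens) ≤ m ⁻¹ᵁ O a := fun z _ => show (m ≫ pullback.fst f (y₁ ≫ h)) z ∈ F.U a by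
    rw [pullback.lift_fst]; exact h₁ trivial
  have key : uP w k = uP (lp (O a) m hm) (r a) := by
    rw [← hD a, ← uP_comp, lp_ι, ← hk, ← uP_comp, mw]
  rw [key]
  simp only [r, map_div, uP_coAt, ← Category.assoc, lp_ι, m₁, m₂]
  exact div_mul_cancel _ _

include ha in
theorem k_unique {Z : Scheme.{u}} {y₁ y₂ : Z ⟶ S'} (e : y₁ ≫ h = y₂ ≫ h) {k k' : Γ(Z, ⊤)ˣ}
    (hk : IsK f h F η y₁ y₂ k) (hk' : IsK f h F η y₁ y₂ k') : k = k' := by
  refine (uP_snd_bijective f ha (y₁ ≫ h)).1 ?_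
  let P := pullback f (y₁ ≫ h)
  let O : X → P.Opens := fun a => pullback.fst f (y₁ ≫ h) ⁻¹ᵁ F.U a
  refine UnitDescent.eq_of_uP (fun a => (O a).ι) (fun z => ⟨_, ⟨z, F.mem _⟩, rfl⟩) fun a => ?_
  let x₁ : (O a).toScheme ⟶ pullback f h := pullback.lift ((O a).ι ≫ pullback.fst f (y₁ ≫ h))
    ((O a).ι ≫ pullback.snd f (y₁ ≫ h) ≫ y₁) (by simp only [Category.assoc, pullback.condition])
  let x₂ : (O a).toScheme ⟶ pullback f h := pullback.lift ((O a).ι ≫ pullback.fst f (y₁ ≫ h))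
    ((O a).ι ≫ pullback.snd f (y₁ ≫ h) ≫ y₂) (by simp only [Category.assoc, pullback.condition, e])
  have hp₁ : x₁ ≫ pullback.fst f h = (O a).ι ≫ pullback.fst f (y₁ ≫ h) := pullback.lift_fst _ _ _
  have hp₂ : x₂ ≫ pullback.fst f h = (O a).ι ≫ pullback.fst f (y₁ ≫ h) := pullback.lift_fst _ _ _
  have ho : (⊤ : (O a).toScheme.Opens) ≤ ((O a).ι ≫ pullback.fst f (y₁ ≫ h)) ⁻¹ᵁ F.U a := fun z _ => z.2
  rw [← uP_comp, ← uP_comp]
  refine mul_right_cancel ((hk x₁ x₂ _ ?_ ?_ (hp₁.trans hp₂.symm) a (by rw [hp₁]; exact ho) (by rw [hp₂]; exact ho)).trans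
    (hk' x₁ x₂ _ ?_ ?_ (hp₁.trans hp₂.symm) a (by rw [hp₁]; exact ho) (by rw [hp₂]; exact ho)).symm) <;>
  · rw [pullback.lift_snd, Category.assoc]

/-- The cocycle of the comparison. -/
def kap {Z : Scheme.{u}} (y₁ y₂ : Z ⟶ S') (e : y₁ ≫ h = y₂ ≫ h) : Γ(Z, ⊤)ˣ :=
  (exists_k f h F η ha y₁ y₂ e).choose

theorem kap_spec {Z : Scheme.{u}} (y₁ y₂ : Z ⟶ S') (e : y₁ ≫ h = y₂ ≫ h) :
    IsK f h F η y₁ y₂ (kap f h F η ha y₁ y₂ e) :=
  (exists_k f h F η ha y₁ y₂ e).choose_spec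

variable (S') in
/-- The standard frames of the structure module. -/
def trivFrames : Frames (Coh.structureModule S') where
  U _ := ⊤
  mem _ := trivial
  e _ := (1 : Γ(S', ⊤))
  he _ := isFrame_one ⊤

theorem τ_triv {Z : Scheme.{u}} (x : Z ⟶ S') (a b : S') (hx : (⊤ : Z.Opens) ≤ x ⁻¹ᵁ (trivFrames S').U a)
    (hy : (⊤ : Z.Opens) ≤ x ⁻¹ᵁ (trivFrames S').U b) : τ (trivFrames S') x a b hx hy = 1 :=
  (show τ (trivFrames S') x a b hx hy = τ (trivFrames S') x a a hx hx from rfl).trans (τ_self _ x a hx)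

/-- The descent datum on the cover. -/
def datum : Datum h (trivFrames S') where
  κ y₁ y₂ e _ _ _ _ := kap f h F η ha y₁ y₂ e
  nat := fun g y₁ y₂ e a b _ _ =>
    k_unique f h F η ha (by rw [Category.assoc, Category.assoc, e])
      (fun {W} x₁ x₂ w e₁ e₂ ep a h₁ h₂ => by
        rw [← uP_comp]
        exact kap_spec f h F η ha y₁ y₂ e x₁ x₂ (w ≫ g) (by rw [e₁, Category.assoc]) (by rw [e₂, Category.assoc])
          ep a h₁ h₂)
      (kap_spec f h F η ha _ _ _)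
  cocycle := fun y₁ y₂ y₃ e₁₂ e₂₃ a b c _ _ _ =>
    k_unique f h F η ha (e₁₂.trans e₂₃)
      (fun {W} x₁ x₃ w e₁ e₃ ep a h₁ h₃ => by
        have hc : (x₁ ≫ pullback.fst f h) ≫ f = (w ≫ y₂) ≫ h := by
          rw [Category.assoc, pullback.condition, reassoc_of% e₁, e₁₂, Category.assoc]
        let x₂ : W ⟶ pullback f h := pullback.lift _ _ hc
        have hp : x₁ ≫ pullback.fst f h = x₂ ≫ pullback.fst f h := (pullback.lift_fst _ _ _).symm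
        rw [map_mul, mul_comm (uP w _) (uP w _), mul_assoc,
          kap_spec f h F η ha y₁ y₂ e₁₂ x₁ x₂ w e₁ (pullback.lift_snd _ _ _) hp a h₁ (hp ▸ h₁),
          kap_spec f h F η ha y₂ y₃ e₂₃ x₂ x₃ w (pullback.lift_snd _ _ _) e₃ (hp.symm.trans ep) a (hp ▸ h₁) h₃])
      (kap_spec f h F η ha _ _ _)
  diag := fun x a b hx hy => by
    rw [τ_triv]
    refine k_unique f h F η ha rfl (kap_spec f h F η ha _ _ _) fun {W} x₁ x₂ w e₁ e₂ ep a h₁ h₂ => ?_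
    obtain rfl : x₁ = x₂ := pullback.hom_ext ep (e₁.trans e₂.symm)
    rw [map_one, one_mul]

theorem div_eq_mul_div {G : Type*} [CommGroup G] (a c k : G) : a / c = a * k / (k * c) := by
  rw [mul_comm a k, mul_div_mul_left_eq_div]

theorem change_frame {G : Type*} {a a' b b' : G} (ha : a = a') (hb : b = b') (e : a' = b') : a = b :=
  ha.trans (e.trans hb.symm)

theorem alg_key {G : Type*} [CommGroup G] {BT GB Bi Bj T g ca cc τ' Gv bi bj : G} (h1 : BT = Bj * T)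
    (h2 : GB = g * Bi) (hi : Bi = bi / ca) (hj : Bj = bj / cc) (hT : T = τ') (hg : g = Gv)
    (hc : cc = τ' * ca) (hb : Gv * bi = bj)  : BT = GB := by
  subst h1 h2 hi hj hT hg hc hb
  rw [div_mul_eq_div_div, div_right_comm, div_mul_cancel, mul_div_assoc]

variable {V : S → S.Opens} (b : ∀ i, RigDescent.Triv (datum f h F η ha) (V i)) (a₀ : S → S')

/-- A solution on a point of the cover. -/
def βe {Z : Scheme.{u}} (y : Z ⟶ S') (i : S) (hv : (⊤ : Z.Opens) ≤ (y ≫ h) ⁻¹ᵁ V i) : Γ(Z, ⊤)ˣ :=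
  ev y (U := (trivFrames S').U (a₀ i) ⊓ h ⁻¹ᵁ V i) (fun z _ => ⟨trivial, hv trivial⟩) ((b i).β (a₀ i))

theorem βe_κ {Z : Scheme.{u}} (y₁ y₂ : Z ⟶ S') (e : y₁ ≫ h = y₂ ≫ h) (i : S)
    (hv : (⊤ : Z.Opens) ≤ (y₁ ≫ h) ⁻¹ᵁ V i) :
    βe f h F η ha b a₀ y₁ i hv * kap f h F η ha y₁ y₂ e = βe f h F η ha b a₀ y₂ i (e ▸ hv) :=
  (b i).spec y₁ y₂ e (a₀ i) (a₀ i) (fun _ _ => trivial) (fun _ _ => trivial) hv

theorem βe_index {Z : Scheme.{u}} (y : Z ⟶ S') (a : S') (i : S) (hv : (⊤ : Z.Opens) ≤ (y ≫ h) ⁻¹ᵁ V i) :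
    ev y (U := (trivFrames S').U a ⊓ h ⁻¹ᵁ V i) (fun _ _ => ⟨trivial, hv trivial⟩) ((b i).β a) =
      βe f h F η ha b a₀ y i hv := by
  have h2 := (b i).spec y y rfl a (a₀ i) (fun _ _ => trivial) (fun _ _ => trivial) hv
  rw [(datum f h F η ha).diag, τ_triv, mul_one] at h2
  exact h2

/-- The change of frame on a point of the cover. -/
def Bv {Z : Scheme.{u}} (x : Z ⟶ pullback f h) (ia : S × X)
    (hx : (⊤ : Z.Opens) ≤ (x ≫ pullback.fst f h) ⁻¹ᵁ (F.U ia.2 ⊓ f ⁻¹ᵁ V ia.1)) : Γ(Z, ⊤)ˣ :=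
  βe f h F η ha b a₀ (x ≫ pullback.snd f h) ia.1 (fun z _ => by
      show ((x ≫ pullback.snd f h) ≫ h) z ∈ V ia.1
      rw [Category.assoc, ← pullback.condition, ← Category.assoc]
      exact (hx trivial).2) /
    coAt F (pullback.fst f h) η x ia.2 (fun _ _ => (hx trivial).1)

theorem βe_nat {Z W : Scheme.{u}} (m : W ⟶ Z) (y : Z ⟶ S') (i : S) (hv : (⊤ : Z.Opens) ≤ (y ≫ h) ⁻¹ᵁ V i) :
    uP m (βe f h F η ha b a₀ y i hv) = βe f h F η ha b a₀ (m ≫ y) i (fun _ _ => hv trivial) :=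
  uP_ev m y _ _

theorem Bv_nat {Z W : Scheme.{u}} (m : W ⟶ Z) (x : Z ⟶ pullback f h) (ia : S × X)
    (hx : (⊤ : Z.Opens) ≤ (x ≫ pullback.fst f h) ⁻¹ᵁ (F.U ia.2 ⊓ f ⁻¹ᵁ V ia.1)) :
    uP m (Bv f h F η ha b a₀ x ia hx) = Bv f h F η ha b a₀ (m ≫ x) ia (fun _ _ => hx trivial) := by
  simp only [Bv, map_div, uP_coAt, βe_nat, Category.assoc]

theorem Bv_eq {Z : Scheme.{u}} (x₁ x₂ : Z ⟶ pullback f h)
    (e : x₁ ≫ pullback.fst f h = x₂ ≫ pullback.fst f h) (ia : S × X)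
    (hx : (⊤ : Z.Opens) ≤ (x₁ ≫ pullback.fst f h) ⁻¹ᵁ (F.U ia.2 ⊓ f ⁻¹ᵁ V ia.1)) :
    Bv f h F η ha b a₀ x₁ ia hx = Bv f h F η ha b a₀ x₂ ia (e ▸ hx) := by
  have eh : (x₁ ≫ pullback.snd f h) ≫ h = (x₂ ≫ pullback.snd f h) ≫ h := by
    simp only [Category.assoc, ← pullback.condition]; exact (reassoc_of% e) f
  have hv : (⊤ : Z.Opens) ≤ ((x₁ ≫ pullback.snd f h) ≫ h) ⁻¹ᵁ V ia.1 := fun z _ => by
    show ((x₁ ≫ pullback.snd f h) ≫ h) z ∈ V ia.1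
    rw [Category.assoc, ← pullback.condition, ← Category.assoc]
    exact (hx trivial).2
  simp only [Bv]
  rw [← βe_κ f h F η ha b a₀ _ _ eh ia.1 hv,
    ← kap_spec f h F η ha _ _ eh x₁ x₂ (𝟙 Z) (Category.id_comp _).symm (Category.id_comp _).symm
      e ia.2 (fun _ _ => (hx trivial).1) (e ▸ fun _ _ => (hx trivial).1), uP_id]
  exact div_eq_mul_div _ _ _

variable [Flat h] [LocallyOfFinitePresentation h] [Surjective h]

theorem βe_trans {Z : Scheme.{u}} (y : Z ⟶ S') (i j : S) (t : Γ(S, V i ⊓ V j)ˣ)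
    (ht : ∀ {Z : Scheme.{u}} (x : Z ⟶ S') (a : S') (hx : (⊤ : Z.Opens) ≤ x ⁻¹ᵁ (trivFrames S').U a)
      (hv : (⊤ : Z.Opens) ≤ (x ≫ h) ⁻¹ᵁ (V i ⊓ V j)),
      ev (x ≫ h) hv t * ev x (U := (trivFrames S').U a ⊓ h ⁻¹ᵁ V j) (fun z _ => ⟨hx (Set.mem_univ z), (hv (Set.mem_univ z)).2⟩)
          ((b j).β a) =
        ev x (U := (trivFrames S').U a ⊓ h ⁻¹ᵁ V i) (fun z _ => ⟨hx (Set.mem_univ z), (hv (Set.mem_univ z)).1⟩) ((b i).β a))
    (hi : (⊤ : Z.Opens) ≤ (y ≫ h) ⁻¹ᵁ V i) (hj : (⊤ : Z.Opens) ≤ (y ≫ h) ⁻¹ᵁ V j) :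
    ev (y ≫ h) (U := V i ⊓ V j) (fun _ _ => ⟨hi trivial, hj trivial⟩) t * βe f h F η ha b a₀ y j hj =
      βe f h F η ha b a₀ y i hi :=
  (ht y (a₀ j) (fun _ _ => trivial) (fun _ _ => ⟨hi trivial, hj trivial⟩)).trans
    (βe_index f h F η ha b a₀ y (a₀ j) i hi)

theorem exists_B (ia : S × X) : ∃ g : Γ(X, F.U ia.2 ⊓ f ⁻¹ᵁ V ia.1)ˣ, ∀ {Z : Scheme.{u}}
    (x : Z ⟶ pullback f h) (hx : (⊤ : Z.Opens) ≤ (x ≫ pullback.fst f h) ⁻¹ᵁ (F.U ia.2 ⊓ f ⁻¹ᵁ V ia.1)),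
    ev (x ≫ pullback.fst f h) hx g = Bv f h F η ha b a₀ x ia hx := by
  let p := pullback.fst f h
  let O : S × X → X.Opens := fun ia => F.U ia.2 ⊓ f ⁻¹ᵁ V ia.1
  obtain ⟨s, hs⟩ := UnitDescent.exists_unit (fun _ : PUnit.{u + 1} => p ∣_ O ia)
    (fun w => by
      obtain ⟨z, hz⟩ := p.surjective w.1
      refine ⟨⟨⟩, ⟨z, show p z ∈ O ia by rw [hz]; exact w.2⟩, (O ia).ι.isOpenEmbedding.injective ?_⟩
      rw [← Scheme.Hom.comp_apply, morphismRestrict_ι]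
      exact hz)
    (fun _ => Bv f h F η ha b a₀ (p ⁻¹ᵁ O ia).ι ia (fun z _ => z.2)) fun _ _ Z m m' e => by
      refine (Bv_nat f h F η ha b a₀ m (p ⁻¹ᵁ O ia).ι ia (fun z _ => z.2)).trans (Eq.trans ?_ (Bv_nat f h F η ha b a₀ m' (p ⁻¹ᵁ O ia).ι ia (fun z _ => z.2)).symm)
      exact Bv_eq f h F η ha b a₀ _ _ (by simp only [Category.assoc, p, ← morphismRestrict_ι]; rw [reassoc_of% e]) ia (fun z _ => Subtype.prop (m z))
  obtain ⟨g, hg⟩ := RigDescent.exists_ev_eq s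
  refine ⟨g, fun {Z} x hx => ?_⟩
  have hx' : (⊤ : Z.Opens) ≤ x ⁻¹ᵁ (p ⁻¹ᵁ O ia) := hx
  have e : lp _ x hx' ≫ (p ∣_ O ia) = lp (O ia) (x ≫ p) hx := by
    rw [← cancel_mono (O ia).ι, Category.assoc, morphismRestrict_ι, lp_ι, ← Category.assoc, lp_ι]
  rw [RigDescent.ev_lp, hg, ← e, uP_comp, hs ⟨⟩, Bv_nat f h F η ha b a₀ _ (p ⁻¹ᵁ O ia).ι ia (fun z _ => z.2)]
  simp only [lp_ι]

theorem frame_change (B : ∀ ia : S × X, Γ(X, F.U ia.2 ⊓ f ⁻¹ᵁ V ia.1)ˣ)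
    (hB : ∀ (ia : S × X) {Z : Scheme.{u}} (x : Z ⟶ pullback f h)
      (hx : (⊤ : Z.Opens) ≤ (x ≫ pullback.fst f h) ⁻¹ᵁ (F.U ia.2 ⊓ f ⁻¹ᵁ V ia.1)),
      ev (x ≫ pullback.fst f h) hx (B ia) = Bv f h F η ha b a₀ x ia hx)
    (i j : S) (t : Γ(S, V j ⊓ V i)ˣ)
    (ht : ∀ {Z : Scheme.{u}} (y : Z ⟶ S') (hj : (⊤ : Z.Opens) ≤ (y ≫ h) ⁻¹ᵁ V j)
      (hi : (⊤ : Z.Opens) ≤ (y ≫ h) ⁻¹ᵁ V i),
      ev (y ≫ h) (U := V j ⊓ V i) (fun z _ => ⟨hj (Set.mem_univ z), hi (Set.mem_univ z)⟩) t *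
        βe f h F η ha b a₀ y i hi = βe f h F η ha b a₀ y j hj)
    (a c : X) {W : X.Opens} (hp : W ≤ F.U a ⊓ f ⁻¹ᵁ V i) (hq : W ≤ F.U c ⊓ f ⁻¹ᵁ V j)
    (wi : W ≤ f ⁻¹ᵁ V i) (wj : W ≤ f ⁻¹ᵁ V j) (wa : W ≤ F.U a) (wc : W ≤ F.U c) :
    Units.map (resR hq).toMonoidHom (B (j, c)) * Units.map (resR (le_inf wa wc)).toMonoidHom (tr (F.he a) (F.he c)) =
      Units.map (f.appLE (V j ⊓ V i) W (le_inf wj wi)).hom.toMonoidHom t *
        Units.map (resR hp).toMonoidHom (B (i, a)) := by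
  let p := pullback.fst f h
  let q := pullback.snd f h
  let G : Γ(X, W)ˣ := Units.map (f.appLE (V j ⊓ V i) W (le_inf wj wi)).hom.toMonoidHom t
  let Bi : Γ(X, W)ˣ := Units.map (resR hp).toMonoidHom (B (i, a))
  let Bj : Γ(X, W)ˣ := Units.map (resR hq).toMonoidHom (B (j, c))
  let τac : Γ(X, W)ˣ := Units.map (resR (le_inf wa wc)).toMonoidHom (tr (F.he a) (F.he c))
  show Bj * τac = G * Bi
  have hV : ∀ {Z : Scheme.{u}} (x : Z ⟶ pullback f h) (i : S), (⊤ : Z.Opens) ≤ (x ≫ p) ⁻¹ᵁ (f ⁻¹ᵁ V i) →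
      (⊤ : Z.Opens) ≤ ((x ≫ q) ≫ h) ⁻¹ᵁ V i := fun x i hx z _ => by
    show ((x ≫ q) ≫ h) z ∈ V i
    rw [Category.assoc, ← pullback.condition, ← Category.assoc]
    exact hx trivial
  refine RigDescent.ev_ι_injective ?_
  refine UnitDescent.eq_of_uP (fun _ : PUnit.{u + 1} => p ∣_ W) (fun w => ?_) fun _ => ?_
  · obtain ⟨z, hz⟩ := p.surjective w.1
    refine ⟨⟨⟩, ⟨z, show p z ∈ W by rw [hz]; exact w.2⟩, W.ι.isOpenEmbedding.injective ?_⟩
    rw [← Scheme.Hom.comp_apply, morphismRestrict_ι]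
    exact hz
  · let x := (p ⁻¹ᵁ W).ι
    have hW : (⊤ : (p ⁻¹ᵁ W).toScheme.Opens) ≤ (x ≫ p) ⁻¹ᵁ W := fun z _ => z.2
    have hG : ev (x ≫ p) hW G = ev ((x ≫ q) ≫ h) (U := V j ⊓ V i)
        (fun _ _ => ⟨hV x j (fun z _ => wj z.2) trivial, hV x i (fun z _ => wi z.2) trivial⟩) t :=
      (Units.ext (ConcreteCategory.congr_hom
        (Scheme.Hom.appLE_comp_appLE (x ≫ p) f (V j ⊓ V i) W ⊤ (le_inf wj wi) hW)
          (t : Γ(S, V j ⊓ V i)))).trans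
        (ev_congr (by simp only [p, q, Category.assoc, pullback.condition]) _ _)
    have hi : ev (x ≫ p) hW Bi = Bv f h F η ha b a₀ x (i, a) (fun z _ => hp z.2) :=
      (ev_eq (x ≫ p) hW hp _ Bi rfl).trans (hB (i, a) x _)
    have hj : ev (x ≫ p) hW Bj = Bv f h F η ha b a₀ x (j, c) (fun z _ => hq z.2) :=
      (ev_eq (x ≫ p) hW hq _ Bj rfl).trans (hB (j, c) x _)
    have hτ : ev (x ≫ p) hW τac = τ F (x ≫ p) a c (fun z _ => wa z.2) (fun z _ => wc z.2) :=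
      ev_eq (x ≫ p) hW (le_inf wa wc) _ τac rfl
    refine change_frame (uP_ev _ _ _ _) (uP_ev _ _ _ _) ?_
    rw [ev_congr (morphismRestrict_ι _ W), ev_congr (morphismRestrict_ι _ W)]
    exact alg_key (map_mul _ _ _) (map_mul _ _ _) hi hj hτ hG
      (coAt_change F p η x a c (fun z _ => wa z.2) (fun z _ => wc z.2))
      (ht (x ≫ q) (hV x j fun z _ => wj z.2) (hV x i fun z _ => wi z.2))

include F η ha in
/-- **An invertible module trivial on a cover of the base comes from the base.** -/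
theorem exists_base : ∃ N : S.Modules, PicF.IsInvertible N ∧ Nonempty ((Scheme.Modules.pullback f).obj N ≅ L) := by
  choose V hy hb using RigDescent.exists_triv (datum f h F η ha)
  have hb' := fun i => (hb i)
  obtain ⟨b⟩ := Classical.nonempty_pi.2 hb'
  choose a₀ ha₀ using fun i : S => h.surjective i
  choose t ht using fun i j : S => RigDescent.exists_trans (b i) (b j)
  have βe_t : ∀ {Z : Scheme.{u}} (y : Z ⟶ S') (i j : S) (hi : (⊤ : Z.Opens) ≤ (y ≫ h) ⁻¹ᵁ V i)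
      (hj : (⊤ : Z.Opens) ≤ (y ≫ h) ⁻¹ᵁ V j),
      ev (y ≫ h) (U := V i ⊓ V j) (fun _ _ => ⟨hi trivial, hj trivial⟩) (t i j) * βe f h F η ha b a₀ y j hj =
        βe f h F η ha b a₀ y i hi := fun y i j hi hj =>
    βe_trans f h F η ha b a₀ y i j (t i j) (fun x a hx hv => ht i j x a hx hv) hi hj
  -- the cocycle on the base
  let co : H23.CocycleMod.Cocycle V := ⟨t, fun i j k W hi hj hk => by
    let g : ∀ p q : S, W ≤ V p → W ≤ V q → Γ(S, W)ˣ := fun p q hp hq =>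
      Units.map (resR (le_inf hp hq)).toMonoidHom (t p q)
    suffices g i k hi hk = g j k hj hk * g i j hi hj from congrArg Units.val this
    refine RigDescent.ev_ι_injective ?_
    refine UnitDescent.eq_of_uP (fun _ : PUnit.{u + 1} => h ∣_ W) (fun w => ?_) fun _ => ?_
    · obtain ⟨x, hx⟩ := h.surjective w.1
      exact ⟨⟨⟩, ⟨x, show h x ∈ W by rw [hx]; exact w.2⟩,
        W.ι.isOpenEmbedding.injective (by rw [← Scheme.Hom.comp_apply, morphismRestrict_ι]; exact hx)⟩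
    · let y := (h ⁻¹ᵁ W).ι
      have hW : (⊤ : (h ⁻¹ᵁ W).toScheme.Opens) ≤ (y ≫ h) ⁻¹ᵁ W := fun z _ => z.2
      have key : ∀ p q (hp : W ≤ V p) (hq : W ≤ V q), uP (h ∣_ W) (ev W.ι (ι_le W le_rfl) (g p q hp hq)) =
          βe f h F η ha b a₀ y p (fun z _ => hp z.2) / βe f h F η ha b a₀ y q (fun z _ => hq z.2) := fun p q hp hq => by
        rw [uP_ev, ev_congr (morphismRestrict_ι _ W), ev_eq (y ≫ h) hW (le_inf hp hq) (t p q) (g p q hp hq) rfl]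
        exact eq_div_iff_mul_eq'.2 (βe_t y p q (fun z _ => hp z.2) (fun z _ => hq z.2))
      rw [map_mul, map_mul, key i k hi hk, key j k hj hk, key i j hi hj, mul_comm, div_mul_div_cancel]⟩
  let p := pullback.fst f h
  let O : S × X → X.Opens := fun ia => F.U ia.2 ⊓ f ⁻¹ᵁ V ia.1
  have hB := fun ia => exists_B f h F η ha b a₀ ia
  choose B hB using hB
  let M := H23.CocycleMod.mod co
  have hcovV : iSup V = ⊤ := top_le_iff.1 fun i _ => Opens.mem_iSup.2 ⟨i, hy i⟩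
  refine ⟨M, H23.CocycleMod.isInvertible co hcovV, ?_⟩
  let N := (Scheme.Modules.pullback f).obj M
  let e : ∀ ia, Γ(N, O ia) := fun ia => res N inf_le_right (pullElt f (H23.CocycleMod.frame co ia.1))
  have he : ∀ ia, IsFrame (e ia) := fun ia =>
    (isFrame_pullElt f (H23.CocycleMod.isFrame_frame co ia.1)).res _
  let n : ∀ ia, Γ(L, O ia) := fun ia => (B ia : Γ(X, O ia)) • res L inf_le_left (F.e ia.2)
  have hn : ∀ ia, IsFrame (n ia) := fun ia => ((F.he ia.2).res _).isUnit_smul (B ia).isUnit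
  refine RigDescent.nonempty_iso_of_main O (fun x => ⟨(f x, x), F.mem x, hy _⟩) e n he hn fun ia jc W hp hq => ?_
  obtain ⟨i, a⟩ := ia
  obtain ⟨j, c⟩ := jc
  have wi : W ≤ f ⁻¹ᵁ V i := hp.trans inf_le_right
  have wj : W ≤ f ⁻¹ᵁ V j := hq.trans inf_le_right
  have wa : W ≤ F.U a := hp.trans inf_le_left
  have wc : W ≤ F.U c := hq.trans inf_le_left
  let G : Γ(X, W)ˣ := Units.map (f.appLE (V j ⊓ V i) W (le_inf wj wi)).hom.toMonoidHom (t j i)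
  let Bi : Γ(X, W)ˣ := Units.map (resR hp).toMonoidHom (B (i, a))
  let Bj : Γ(X, W)ˣ := Units.map (resR hq).toMonoidHom (B (j, c))
  let τac : Γ(X, W)ˣ := Units.map (resR (le_inf wa wc)).toMonoidHom (tr (F.he a) (F.he c))
  refine ⟨G, ?_, ?_⟩
  · show res N hq (res N _ _) = _ • res N hp (res N _ _)
    rw [res_res, res_res]
    have h' := congrArg (fun s => res N (show W ≤ f ⁻¹ᵁ (V j ⊓ V i) from le_inf wj wi) (pullElt f s))
      (H23.CocycleMod.res_frame co j i)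
    erw [FramesTrans.pullElt_res, FramesTrans.pullElt_smul, FramesTrans.pullElt_res, res_smul, res_res, res_res] at h'
    exact h'
  · have key : Bj * τac = G * Bi :=
      frame_change f h F η ha b a₀ B hB i j (t j i) (fun y hj hi => βe_t y j i hj hi) a c hp hq wi wj wa wc
    show res L hq ((B (j, c) : Γ(X, O (j, c))) • res L _ (F.e c)) =
      _ • res L hp ((B (i, a) : Γ(X, O (i, a))) • res L _ (F.e a))
    rw [res_smul, res_smul, res_res, res_res, tr_spec (F.he a) (F.he c) wa wc, smul_smul, smul_smul]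
    exact congrArg (· • res L wa (F.e a)) (congrArg Units.val key)

end Groth.Agent.PicFppfTriv
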